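import Mathlib
import Cfsg.Agent.Lib.Helper99.CHO.Defs

/-!
# CHO (S1082/S1083), package [ISO-B2]: the model root elements of type B2 are isometries of
`x₀² + x₁y₁ + x₂y₂` (every field)
-/

set_option autoImplicit false

namespace Cfsg.Agent.Lib.Helper22.CHO

open Matrix Cfsg.Agent.Lib.Helper99.CHO

universe u

set_option maxHeartbeats 1000000 in
/-- **[ISO-B2]** -/
theorem pkgIsoB2 : PkgIsoB2.{u} := by
  intro K _ r t hr v
  unfold Cfsg.quadFormOdd
  interval_cases r <;>
  simp [EB2mat, NB2, MB2, Matrix.mulVec, dotProduct, Fintype.sum_sum_type, Fin.sum_univ_two,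
    Matrix.add_apply, Matrix.one_apply, ix5, tab3, nListB2, mListB2] <;> ring

end Cfsg.Agent.Lib.Helper22.CHO
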