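import Mathlib
import Cfsg.Agent.Lib.Helper99.CHO.Defs

/-!
# CHO (S1082/S1083), package [UNIT-B2]: the model root elements of type B2 are
invertible.  Integer table facts `N² = 2M`, `NM = MN = 0`, `M² = 0` by kernel evaluation, then
`E_r(t) * E_r(-t) = 1` by algebra.
-/

set_option autoImplicit false

namespace Cfsg.Agent.Lib.Helper22.CHO

open Matrix Cfsg.Agent.Lib.Helper99.CHO

universe u

/-- entry `(a, c)` of the product of two `5 × 5` table matrices -/
def tmul5 (L L' : List (List (List ℤ))) (r a c : ℕ) : ℤ :=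
  tab3 L r a 0 * tab3 L' r 0 c + tab3 L r a 1 * tab3 L' r 1 c + tab3 L r a 2 * tab3 L' r 2 c +
    tab3 L r a 3 * tab3 L' r 3 c + tab3 L r a 4 * tab3 L' r 4 c

/-- the integer facts about the B2 tables -/
theorem b2_int : ∀ r < 8, ∀ a < 5, ∀ c < 5,
    tmul5 nListB2 nListB2 r a c = tab3 mListB2 r a c + tab3 mListB2 r a c ∧
    tmul5 nListB2 mListB2 r a c = 0 ∧ tmul5 mListB2 nListB2 r a c = 0 ∧
    tmul5 mListB2 mListB2 r a c = 0 := by
  decide +kernel

theorem ix5_lt (i : Unit ⊕ (Fin 2 ⊕ Fin 2)) : ix5 i < 5 := by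
  rcases i with (_ | i | i)
  · simp [ix5]
  · have := i.isLt
    simp only [ix5]
    omega
  · have := i.isLt
    simp only [ix5]
    omega

/-- a table matrix over `K` -/
def tmat (K : Type u) [Field K] (L : List (List (List ℤ))) (r : ℕ) :
    Matrix (Unit ⊕ (Fin 2 ⊕ Fin 2)) (Unit ⊕ (Fin 2 ⊕ Fin 2)) K :=
  Matrix.of fun i j => ((tab3 L r (ix5 i) (ix5 j) : ℤ) : K)

theorem tmat_mul (K : Type u) [Field K] (L L' : List (List (List ℤ))) (r : ℕ) :
    tmat K L r * tmat K L' r = Matrix.of fun i j => ((tmul5 L L' r (ix5 i) (ix5 j) : ℤ) : K) := by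
  ext i j
  simp only [Matrix.mul_apply, tmat, Matrix.of_apply, tmul5, Fintype.sum_sum_type,
    Fin.sum_univ_two, Finset.univ_unique, Finset.sum_singleton, ix5, Fin.val_zero, Fin.val_one,
    Int.cast_add, Int.cast_mul]
  ring_nf

theorem NB2_eq (K : Type u) [Field K] (r : ℕ) : NB2 K r = tmat K nListB2 r := rfl

theorem MB2_eq (K : Type u) [Field K] (r : ℕ) : MB2 K r = tmat K mListB2 r := rfl

theorem NB2_facts (K : Type u) [Field K] (r : ℕ) (hr : r < 8) :
    NB2 K r * NB2 K r = MB2 K r + MB2 K r ∧ NB2 K r * MB2 K r = 0 ∧ MB2 K r * NB2 K r = 0 ∧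
      MB2 K r * MB2 K r = 0 := by
  rw [NB2_eq, MB2_eq, tmat_mul, tmat_mul, tmat_mul, tmat_mul]
  refine ⟨?_, ?_, ?_, ?_⟩
  · ext i j
    have h := (b2_int r hr (ix5 i) (ix5_lt i) (ix5 j) (ix5_lt j)).1
    simp only [Matrix.of_apply, Matrix.add_apply, tmat, h, Int.cast_add]
  · ext i j
    have h := (b2_int r hr (ix5 i) (ix5_lt i) (ix5 j) (ix5_lt j)).2.1
    simp only [Matrix.of_apply, Matrix.zero_apply, h, Int.cast_zero]
  · ext i j
    have h := (b2_int r hr (ix5 i) (ix5_lt i) (ix5 j) (ix5_lt j)).2.2.1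
    simp only [Matrix.of_apply, Matrix.zero_apply, h, Int.cast_zero]
  · ext i j
    have h := (b2_int r hr (ix5 i) (ix5_lt i) (ix5 j) (ix5_lt j)).2.2.2
    simp only [Matrix.of_apply, Matrix.zero_apply, h, Int.cast_zero]

/-- `E_r(t) * E_r(s) = E_r(t + s)` -/
theorem EB2mat_mul_add (K : Type u) [Field K] (r : ℕ) (t s : K) (hr : r < 8) :
    EB2mat K r t * EB2mat K r s = EB2mat K r (t + s) := by
  obtain ⟨hNN, hNM, hMN, hMM⟩ := NB2_facts K r hr
  unfold EB2mat
  simp only [add_mul, mul_add, one_mul, mul_one, smul_mul_assoc, mul_smul_comm, hNN, hNM, hMN,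
    hMM, smul_zero, add_zero, smul_add, smul_smul]
  module

theorem EB2mat_zero (K : Type u) [Field K] (r : ℕ) : EB2mat K r 0 = 1 := by
  unfold EB2mat
  simp

/-- **[UNIT-B2]** -/
theorem pkgUnitB2 : PkgUnitB2.{u} := by
  intro K _ r t hr
  refine isUnit_iff_exists.mpr ⟨EB2mat K r (-t), ?_, ?_⟩
  · rw [EB2mat_mul_add K r t (-t) hr, add_neg_cancel, EB2mat_zero]
  · rw [EB2mat_mul_add K r (-t) t hr, neg_add_cancel, EB2mat_zero]

end Cfsg.Agent.Lib.Helper22.CHO
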